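import Groth.Agent.Lib.BddFam20.Regular
import Groth.Agent.Lib.CMReg.Resolution
import Groth.Agent.Lib.Regularity10.Bound
import Groth.Agent.Lib.CMReg.HilbDegree
import Groth.Prelude.Def_FGA

/-!
# Quotients with given Hilbert functions form a bounded family
-/

set_option autoImplicit false
set_option linter.style.haveILetI false
set_option linter.unusedSectionVars false
set_option maxHeartbeats 1000000
set_option backward.isDefEq.respectTransparency false

universe u

open CategoryTheory CategoryTheory.Limits AlgebraicGeometry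
open GrothLib.CMReg

noncomputable section

namespace GrothLib.BddFam20

variable {n : ℕ} {k : Type u} [Field k]

theorem eulerCharLE_eq_euler {M : (CohB1.ProjSpace n k).Modules} (hM : Coh.IsCoh M) :
    FGA.eulerCharLE k (CohB1.ProjSpace n k) M n = Curv2.euler k (CohB1.ProjSpace n k) M := by
  haveI := hM.1
  exact (Euler.euler_eq_sum k M (N := n + 1) fun i hi => subsingleton_HH_of_lt M (by omega)).symm

theorem euler_eq_h0 {F : (CohB1.ProjSpace n k).Modules} (hF : Coh.IsCoh F) {m : ℤ}
    (h : Curv2.IsMRegular k n F m) (t : ℤ) (ht : m ≤ t) :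
    Curv2.euler k (CohB1.ProjSpace n k) (Ft F t) =
      (Module.finrank k (Coh.HH (CohB1.ProjSpace n k) (Ft F t) 0) : ℤ) := by
  rw [Euler.euler_eq_sum k _ (N := 1) fun i hi => propagate hF m h i t hi (by omega)]
  simp

theorem regular_of_le {F : (CohB1.ProjSpace n k).Modules} (hF : Coh.IsCoh F) {m m' : ℤ}
    (h : Curv2.IsMRegular k n F m) (hm : m ≤ m') : Curv2.IsMRegular k n F m' :=
  fun i hi _ => propagate hF m h i _ hi (by omega)

/-- Quotients with a given Hilbert function are uniformly regular. -/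
theorem exists_regular_quotient [Infinite k] {E : (CohB1.ProjSpace n k).Modules} (hE : Coh.IsCoh E) (f : ℤ → ℤ) :
    ∃ m : ℤ, ∀ F : (CohB1.ProjSpace n k).Modules, Coh.IsCoh F → (∃ p : E ⟶ F, Epi p) →
      (∀ t : ℤ, Curv2.euler k (CohB1.ProjSpace n k) (Ft F t) = f t) → Curv2.IsMRegular k n F m := by
  obtain ⟨s, hs⟩ := exists_regular hE
  obtain ⟨N, φ, -, hφ, -, -⟩ := exists_step hE s hs _ le_rfl
  let M : (CohB1.ProjSpace n k).Modules := FlatMod.freeMod (CohB1.ProjSpace n k) N
  have hM : Coh.IsCoh M := Euler.isCoh_of_isFinLocFree (OX.isFinLocFree_freeMod _ N)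
  have hMreg : Curv2.IsMRegular k n M 0 := fun i hi _ => subsingleton_Ft_freeMod N hi (by omega)
  obtain ⟨D, hD⟩ := CMReg.exists_dimLT (CohB1.support M)
  obtain ⟨m, hm⟩ := Regularity.exists_regularity_bound (n := n) (k := k) D
    (fun t => Module.finrank k (Coh.HH (CohB1.ProjSpace n k) (Ft M t) 0))
    (fun t => Curv2.euler k (CohB1.ProjSpace n k) (Ft M t) - f (s + t)) 0
  refine ⟨s + max m 0, fun F hF ⟨p, hp⟩ hf => ?_⟩
  obtain ⟨e1⟩ := nonempty_Ft_sumTwist (n := n) (k := k) N (-s) s 0 (by ring)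
  obtain ⟨e2⟩ := nonempty_Ft_freeMod (n := n) (k := k) N 0
  obtain ⟨e3⟩ := nonempty_Ft_zero M
  haveI := hp
  haveI := hφ
  haveI : Epi (φ ≫ p) := epi_comp _ _
  have hS0 : (ShortComplex.mk (kernel.ι (φ ≫ p)) (φ ≫ p) (kernel.condition (φ ≫ p))).ShortExact :=
    { exact := ShortComplex.exact_of_f_is_kernel _ (kernelIsKernel (φ ≫ p)) }
  haveI : Epi ((ftFun (n := n) (k := k) s).map (φ ≫ p)) := (ft_shortExact hS0 s).epi_g
  let r : M ⟶ Ft F s := e3.inv ≫ e2.hom ≫ e1.inv ≫ (ftFun (n := n) (k := k) s).map (φ ≫ p)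
  haveI : Epi r := epi_comp' inferInstance (epi_comp' inferInstance (epi_comp' inferInstance inferInstance))
  have hG := isCoh_Ft hF s
  have hK : Coh.IsCoh (kernel r) := QCoh.isCoh_kernel r hM hG
  have hSr : (ShortComplex.mk (kernel.ι r) r (kernel.condition r)).ShortExact :=
    { exact := ShortComplex.exact_of_f_is_kernel _ (kernelIsKernel r) }
  have hKreg : Curv2.IsMRegular k n (kernel r) m := by
    refine hm M hM hD hMreg (fun t => le_rfl) (kernel r) (kernel.ι r) inferInstance hK fun t _ => ?_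
    have h := Regularity.euler_Ft_add hSr hK hM hG t
    have h2 : Curv2.euler k (CohB1.ProjSpace n k) (Ft (Ft F s) t) = f (s + t) := by
      rw [Euler.euler_of_iso k (nonempty_Ft_Ft F s t (s + t) rfl).some, hf]
    have h' : Curv2.euler k (CohB1.ProjSpace n k) (Ft M t) =
      Curv2.euler k (CohB1.ProjSpace n k) (Ft (kernel r) t) +
        Curv2.euler k (CohB1.ProjSpace n k) (Ft (Ft F s) t) := h
    omega
  intro i hi hin
  obtain ⟨e⟩ := nonempty_Ft_Ft F s (max m 0 - i) (s + max m 0 - i) (by ring)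
  refine subsingleton_of_iso e ?_
  exact sub_X₃ (S := ShortComplex.mk (kernel.ι r) r (kernel.condition r)) hSr
    (subsingleton_Ft_freeMod N hi (by omega)) (propagate hK m hKreg (i + 1) _ (by omega) (by push_cast; omega))

/-- **Quotients with Hilbert function in a finite set form a bounded family.** -/
theorem isBounded_quotients [Infinite k] {E : (CohB1.ProjSpace n k).Modules} (hE : Coh.IsCoh E)
    (Φ : Set (ℤ → ℤ)) (hΦ : Φ.Finite) :
    Pic13.IsBounded k (CohB1.ProjSpace n k) (fun F =>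
      Coh.IsCoh F ∧ (∃ p : E ⟶ F, Epi p) ∧
        (fun r : ℤ => FGA.eulerCharLE k (CohB1.ProjSpace n k)
          (CohB1.tensorMod F (Twist.twistProjSpace n k r)) n) ∈ Φ) := by
  classical
  choose m hm using exists_regular_quotient (n := n) (k := k) hE
  obtain ⟨M, hM⟩ := (hΦ.image m).bddAbove
  obtain ⟨B, hB⟩ := (hΦ.image fun f => (f M).toNat).bddAbove
  refine isBounded_mono (isBounded_regular M B) ?_
  rintro F ⟨hF, hp, hmem⟩
  let f := fun r : ℤ => FGA.eulerCharLE k (CohB1.ProjSpace n k)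
    (CohB1.tensorMod F (Twist.twistProjSpace n k r)) n
  have he : ∀ t : ℤ, Curv2.euler k (CohB1.ProjSpace n k) (Ft F t) = f t := fun t =>
    (eulerCharLE_eq_euler (isCoh_Ft hF t)).symm
  have hreg := regular_of_le hF (hm f F hF hp he) (hM ⟨f, hmem, rfl⟩)
  refine ⟨hF, hreg, ?_⟩
  have h1 := hB ⟨f, hmem, rfl⟩
  have h2 := (euler_eq_h0 hF hreg M le_rfl).symm.trans (he M)
  simp only at h1
  omega

end GrothLib.BddFam20
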