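import Groth.Agent.Lib.BddFam20.Regular
import Groth.Agent.Lib.Regularity10.Transfer
import Groth.Agent.Lib.UnifVanish7.Transfer
import Groth.Prelude.Def_FGA

/-!
# Boundedness on a closed subscheme of projective space
-/

set_option autoImplicit false
set_option linter.style.haveILetI false
set_option linter.unusedSectionVars false
set_option maxHeartbeats 1000000
set_option backward.isDefEq.respectTransparency false

universe u

open CategoryTheory CategoryTheory.Limits AlgebraicGeometry
open GrothLib.CMReg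

noncomputable section

namespace GrothLib.BddFam20

variable {n : ℕ} {k : Type u} [Field k] {X : Scheme.{u}} [X.Over (Spec (CommRingCat.of k))]
  (i : X ⟶ CohB1.ProjSpace n k) [IsClosedImmersion i]
  (hi : i ≫ CohB1.ProjSpace.toSpec n k = X ↘ Spec (CommRingCat.of k))

include hi

theorem isProper_of_closed : IsProper (X ↘ Spec (CommRingCat.of k)) := by
  haveI : IsProper (CohB1.ProjSpace.toSpec n k) := Chow.isProper_toSpec n k
  rw [← hi]
  infer_instance

/-- A family is bounded as soon as its direct image is. -/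
theorem isBounded_of_push {P : X.Modules → Prop} {Q : (CohB1.ProjSpace n k).Modules → Prop}
    (hQ : Pic13.IsBounded k (CohB1.ProjSpace n k) Q) (hP : ∀ F, P F → Coh.IsCoh F)
    (h : ∀ F, P F → Q ((Scheme.Modules.pushforward i).obj F)) : Pic13.IsBounded k X P := by
  obtain ⟨T, q, h1, h2, G, hG, hall⟩ := hQ
  let j : Pic13.prodK k X q ⟶ Pic13.prodK k (CohB1.ProjSpace n k) q :=
    pullback.map _ _ _ _ i (𝟙 T) (𝟙 _) (by rw [Category.comp_id]; exact hi.symm) (by simp)
  refine ⟨T, q, h1, h2, (Scheme.Modules.pullback j).obj G, GeomSS.isCoh_pullback' j hG, fun F hF => ?_⟩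
  obtain ⟨t, ht, ⟨e⟩⟩ := hall _ (h F hF)
  refine ⟨t, ht, ?_⟩
  haveI := (hP F hF).1
  haveI := UnifVanish7.isIso_counit_closed i F
  have hw : Pic13.sliceAt k X q t ht ≫ j = i ≫ Pic13.sliceAt k (CohB1.ProjSpace n k) q t ht := by
    have hi' : i ≫ (CohB1.ProjSpace n k ↘ Spec (CommRingCat.of k)) = X ↘ Spec (CommRingCat.of k) := hi
    apply pullback.hom_ext
    · simp only [j, Pic13.sliceAt, Category.assoc, pullback.lift_fst, pullback.lift_fst_assoc]
      exact (Category.id_comp i).trans (Category.comp_id i).symm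
    · simp only [j, Pic13.sliceAt, Category.assoc, pullback.lift_snd, pullback.lift_snd_assoc, reassoc_of% hi',
        Category.comp_id]
  exact ⟨(Scheme.Modules.pullbackComp (Pic13.sliceAt k X q t ht) j).app G ≪≫
    (Scheme.Modules.pullbackCongr hw).app G ≪≫
    ((Scheme.Modules.pullbackComp i (Pic13.sliceAt k (CohB1.ProjSpace n k) q t ht)).app G).symm ≪≫
    (Scheme.Modules.pullback i).mapIso e ≪≫ asIso ((Scheme.Modules.pullbackPushforwardAdjunction i).counit.app F)⟩

theorem nonempty_HH_twistOn {F : X.Modules} (hF : Coh.IsCoh F) (t : ℤ) (q : ℕ) :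
    Nonempty (Coh.HH X (Pic13.twistOn k i F t) q ≃ₗ[k]
      Coh.HH (CohB1.ProjSpace n k) (Ft ((Scheme.Modules.pushforward i).obj F) t) q) := by
  haveI := isProper_of_closed i hi
  haveI := Euler.isNoetherian_of_proper (X := X) k
  have hinv := Ample.isInvertible_pullback i (isInvertible_twist (n := n) (k := k) t)
  haveI : (Pic13.twistOn k i F t).IsQuasicoherent := (isCoh_tensorMod hF hinv).1
  obtain ⟨e⟩ := Snapper.nonempty_HH_linearEquiv_pushforward (A := k) i hi (Pic13.twistOn k i F t) q
  obtain ⟨g⟩ := Regularity.nonempty_push_tensor i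
    (Euler.isFinLocFree_of_isInvertible (isInvertible_twist (n := n) (k := k) t)) F
    (Iso.refl ((Scheme.Modules.pullback i).obj (Twist.twistProjSpace n k t)))
  exact ⟨e.trans (Euler.hhEquiv (A := k) g q)⟩

theorem isMRegular_push {F : X.Modules} (hF : Coh.IsCoh F) {m : ℤ} (h : Pic13.IsMRegular k i F m) :
    Curv2.IsMRegular k n ((Scheme.Modules.pushforward i).obj F) m := fun q hq _ => by
  obtain ⟨e⟩ := nonempty_HH_twistOn i hi hF (m - q) q
  haveI := h q hq
  exact e.symm.toEquiv.subsingleton

theorem subsingleton_of_regular {F : X.Modules} (hF : Coh.IsCoh F) {m : ℤ}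
    (h : Curv2.IsMRegular k n ((Scheme.Modules.pushforward i).obj F) m) (t : ℤ) (q : ℕ) (hq : 1 ≤ q)
    (ht : m - q ≤ t) : Subsingleton (Coh.HH (CohB1.ProjSpace n k) (Ft ((Scheme.Modules.pushforward i).obj F) t) q) := by
  haveI := isProper_of_closed i hi
  haveI := Euler.isNoetherian_of_proper (X := X) k
  exact propagate (FormalExist7.isCoh_pushforward i hF) m h q t hq ht

theorem eulerCharLE_eq {F : X.Modules} (hF : Coh.IsCoh F) {m : ℤ}
    (h : Curv2.IsMRegular k n ((Scheme.Modules.pushforward i).obj F) m) :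
    FGA.eulerCharLE k X (Pic13.twistOn k i F m) n =
      (Module.finrank k (Coh.HH (CohB1.ProjSpace n k) (Ft ((Scheme.Modules.pushforward i).obj F) m) 0) : ℤ) := by
  show (∑ q ∈ Finset.range (n + 1), _) = _
  rw [Finset.sum_eq_single 0]
  · obtain ⟨e⟩ := nonempty_HH_twistOn i hi hF m 0
    simp [e.finrank_eq]
  · intro q _ hq
    obtain ⟨e⟩ := nonempty_HH_twistOn i hi hF m q
    haveI := subsingleton_of_regular i hi hF h m q (by omega) (by omega)
    rw [e.finrank_eq, Module.finrank_zero_of_subsingleton]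
    simp
  · simp

/-- Regular modules with bounded sections form a bounded family. -/
theorem isBounded_regular_closed (m : ℤ) (B : ℕ) :
    Pic13.IsBounded k X (fun F => Coh.IsCoh F ∧ Curv2.IsMRegular k n ((Scheme.Modules.pushforward i).obj F) m ∧
      Module.finrank k (Coh.HH (CohB1.ProjSpace n k) (Ft ((Scheme.Modules.pushforward i).obj F) m) 0) ≤ B) := by
  haveI := isProper_of_closed i hi
  haveI := Euler.isNoetherian_of_proper (X := X) k
  exact isBounded_of_push i hi (isBounded_regular m B) (fun F hF => hF.1)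
    fun F hF => ⟨FormalExist7.isCoh_pushforward i hF.1, hF.2.1, hF.2.2⟩

end GrothLib.BddFam20
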