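import Groth.Agent.Lib.BddFam20.Embedded
import Groth.Agent.Lib.CMReg.Extension
import Groth.Agent.Lib.CMReg.NegGrowth
import Groth.Agent.Lib.CMReg.SupportOne
import Groth.Agent.Lib.Regularity10.Linear
import Groth.Agent.Lib.QCoh.SupportPullback
import Groth.Agent.Lib.QCoh.ClosedImmersion
import Groth.Agent.Lib.Hilb20.Morph
import Groth.Agent.Lib.Hilb20.Saturation
import Groth.Agent.Lib.Hilb20.SlopeCoh
import Groth.Agent.Lib.Hilb20.Positive

/-!
# Semistable sheaves on a curve with fixed Hilbert polynomial form a bounded family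
-/

set_option autoImplicit false
set_option linter.style.haveILetI false
set_option linter.unusedSectionVars false
set_option maxHeartbeats 1000000
set_option backward.isDefEq.respectTransparency false

universe u

open CategoryTheory CategoryTheory.Limits AlgebraicGeometry Polynomial TopologicalSpace
open GrothLib.CMReg
open GrothLib.Snapper (DimLT)
open GrothLib.Cohom (hhMap)
open StabCat (alpha)

noncomputable section

namespace GrothLib.BddFam20

theorem degree_le_one {P : ℚ[X]} (h : P.degree < ((2 : ℕ) : WithBot ℕ)) : P.degree ≤ 1 :=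
  (degree_le_iff_coeff_zero _ _).2 fun m hm => coeff_eq_zero_of_degree_lt (lt_of_lt_of_le h (by
    have : 1 < m := by exact_mod_cast hm
    exact_mod_cast this))

theorem dimLT_preimage {X Y : Scheme.{u}} (i : X ⟶ Y) [IsClosedImmersion i] {S : Set Y} {d : ℕ}
    (h : DimLT S d) : DimLT (i.base ⁻¹' S) d := by
  intro l hl
  have hmono : StrictMono (fun x : X => i.base x) := fun a b hab => by
    refine lt_of_le_not_ge (show i.base b ⤳ i.base a from i.isClosedEmbedding.isInducing.specializes_iff.2 hab.le)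
      fun hle => hab.not_ge (i.isClosedEmbedding.isInducing.specializes_iff.1 hle)
  exact h (l.map _ hmono) fun j => hl j

variable {n : ℕ} {k : Type u} [Field k] {X : Scheme.{u}} [X.Over (Spec (CommRingCat.of k))]
  (i : X ⟶ CohB1.ProjSpace n k) [IsClosedImmersion i]
  (hi : i ≫ CohB1.ProjSpace.toSpec n k = X ↘ Spec (CommRingCat.of k))

include hi

/-- Nothing with finite support maps to the direct image of a pure module of positive dimension. -/
theorem hom_push_eq_zero {E : X.Modules} (hE : Coh.IsCoh E) {d : ℕ} (hd : 1 ≤ d) (hp : ShStab.IsPure X E d)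
    {M : (CohB1.ProjSpace n k).Modules} (hM : Coh.IsCoh M) (hM0 : DimLT (CohB1.support M) 1)
    (g : M ⟶ (Scheme.Modules.pushforward i).obj E) : g = 0 := by
  haveI := isProper_of_closed i hi
  haveI := Euler.isNoetherian_of_proper (X := X) k
  let adj := Scheme.Modules.pullbackPushforwardAdjunction i
  let h := (adj.homEquiv _ _).symm g
  suffices h0 : h = 0 by
    have h1 : adj.homEquiv _ _ h = g := Equiv.apply_symm_apply _ _
    rw [← h1, h0, Adjunction.homEquiv_unit]
    exact (congrArg (adj.unit.app M ≫ ·) ((Scheme.Modules.pushforward i).map_zero _ _)).trans Limits.comp_zero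
  have hMX : Coh.IsCoh ((Scheme.Modules.pullback i).obj M) := GeomSS.isCoh_pullback' i hM
  have hI : Coh.IsCoh (Abelian.image h) := Hilb20.isCoh_image (k := k) h hMX hE
  have hIz : IsZero (Abelian.image h) := by
    by_contra hne
    have h1 := hp _ (Abelian.image.ι h) inferInstance hI hne
    have h2 : topologicalKrullDim (CohB1.support (Abelian.image h)) ≤ ((0 : ℕ) : WithBot ℕ∞) := by
      refine Snapper.dim_le_of_dimLT (QCoh.isClosed_support_of_isCoh hI) ((dimLT_preimage i hM0).mono ?_)
      rw [← QCoh.support_pullback i M hM]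
      exact QCoh.support_subset_of_epi (Abelian.factorThruImage h)
    rw [h1] at h2
    exact absurd (show d ≤ 0 by exact_mod_cast h2) (by omega)
  rw [← Abelian.image.fac h, hIz.eq_zero_of_tgt (Abelian.factorThruImage h), Limits.zero_comp]

section Dim

variable (hdim : topologicalKrullDim X ≤ 1)

omit hi in
include hdim in
theorem dimLT_range : DimLT (Set.range i.base) 2 := by
  refine Snapper.dimLT_of_dim_le (le_trans (le_of_eq ?_) hdim)
  exact (IsHomeomorph.topologicalKrullDim_eq _ (i.isClosedEmbedding.isEmbedding.toHomeomorph).isHomeomorph).symm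

omit hi in
include hdim in
theorem dimLT_of_notMem_range [IsIntegral X] {S : Set (CohB1.ProjSpace n k)} (hS : S ⊆ Set.range i.base)
    (hη : i.base (genericPoint X) ∉ S) : DimLT S 1 := by
  have hr : Set.range i.base ⊆ closure {i.base (genericPoint X)} := by
    rintro _ ⟨x, rfl⟩
    exact specializes_iff_mem_closure.1 ((genericPoint_specializes x).map i.base.hom.continuous)
  refine Snapper.dimLT_of_notMem ((dimLT_range i hdim).mono ?_) (hS.trans hr) hη
  exact closure_minimal (by rintro _ rfl; exact Set.mem_range_self _) i.isClosedEmbedding.isClosed_range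

omit hi in
theorem support_Ft_push_subset (M : X.Modules) (t : ℤ) :
    CohB1.support (Ft ((Scheme.Modules.pushforward i).obj M) t) ⊆ Set.range i.base :=
  (support_tensorMod_subset (X := CohB1.ProjSpace n k) _ _ (isInvertible_twist t)).trans
    (QCoh.support_pushforward_subset_range i M)

include hdim in
theorem subsingleton_two_le (M : X.Modules) (hM : Coh.IsCoh M) (t : ℤ) (q : ℕ) (hq : 2 ≤ q) :
    Subsingleton (Coh.HH (CohB1.ProjSpace n k) (Ft ((Scheme.Modules.pushforward i).obj M) t) q) := by
  haveI := isProper_of_closed i hi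
  haveI := Euler.isNoetherian_of_proper (X := X) k
  haveI : IsProper (CohB1.ProjSpace n k ↘ Spec (CommRingCat.of k)) := Chow.isProper_toSpec n k
  have hF := isCoh_Ft (FormalExist7.isCoh_pushforward i hM) t
  refine subsingleton_HH_of_support_dim_le_one k hF ?_ q hq
  exact_mod_cast Snapper.dim_le_of_dimLT (QCoh.isClosed_support_of_isCoh hF)
    ((dimLT_range i hdim).mono (support_Ft_push_subset i M t))

/-- A coordinate form is injective on a pure module with zero-dimensional cokernel. -/
theorem exists_linear [IsIntegral X] (hdim : topologicalKrullDim X ≤ 1) {E : X.Modules} (hE : Coh.IsCoh E)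
    (hp : ShStab.IsPure X E 1) :
    ∃ ι : CohB1.tensorMod ((Scheme.Modules.pushforward i).obj E) (Twist.twistProjSpace n k (-1)) ⟶
        (Scheme.Modules.pushforward i).obj E,
      Mono ι ∧ topologicalKrullDim (CohB1.support (cokernel ι)) ≤ 0 := by
  haveI := isProper_of_closed i hi
  haveI := Euler.isNoetherian_of_proper (X := X) k
  let G := (Scheme.Modules.pushforward i).obj E
  have hG : Coh.IsCoh G := FormalExist7.isCoh_pushforward i hE
  haveI := hG.1
  haveI := (isCoh_Ft hG (-1)).1
  obtain ⟨l, -, hl⟩ := CMReg.covers (n := n) (k := k) (i.base (genericPoint X))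
  let a := coordSect n k l
  let f := Regularity.mulLin a G
  have hK : Coh.IsCoh (kernel f) := QCoh.isCoh_kernel f (isCoh_Ft hG (-1)) hG
  have hC : Coh.IsCoh (cokernel f) := QCoh.isCoh_cokernel f (isCoh_Ft hG (-1)) hG
  have hb : Function.Bijective (QCoh.stalkLin f (i.base (genericPoint X))) :=
    Regularity.bijective_mulLin a G hl
  have hK1 : DimLT (CohB1.support (kernel f)) 1 :=
    dimLT_of_notMem_range i hdim ((QCoh.support_subset_of_mono (kernel.ι f)).trans (support_Ft_push_subset i E (-1)))
      (QCoh.notMem_support_kernel_of_injective f hb.1)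
  have hC1 : DimLT (CohB1.support (cokernel f)) 1 :=
    dimLT_of_notMem_range i hdim
      ((QCoh.support_subset_of_epi (cokernel.π f)).trans (QCoh.support_pushforward_subset_range i E))
      (QCoh.notMem_support_cokernel_of_surjective f hb.2)
  have hS : (ShortComplex.mk (kernel.ι (cokernel.π (kernel.ι f))) (cokernel.π (kernel.ι f))
      (kernel.condition _)).ShortExact :=
    { exact := ShortComplex.exact_of_f_is_kernel _ (kernelIsKernel _) }
  have hmono : Mono f := by
    refine Preadditive.mono_of_cancel_zero _ fun {P} x hx => ?_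
    obtain ⟨g⟩ := nonempty_Ft_Ft G (-1) 1 0 (by norm_num)
    obtain ⟨g0⟩ := nonempty_Ft_zero G
    have hS0 : (ShortComplex.mk (kernel.ι f) (cokernel.π (kernel.ι f)) (cokernel.condition _)).ShortExact :=
      { exact := ShortComplex.exact_of_g_is_cokernel _ (cokernelIsCokernel _) }
    haveI : Mono ((ftFun (n := n) (k := k) 1).map (kernel.ι f)) := (ft_shortExact hS0 1).mono_f
    have hz := hom_push_eq_zero i hi hE le_rfl hp (isCoh_Ft hK 1)
      (hK1.mono (support_tensorMod_subset (X := CohB1.ProjSpace n k) _ _ (isInvertible_twist 1)))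
      ((ftFun (n := n) (k := k) 1).map (kernel.ι f) ≫ (g ≪≫ g0).hom)
    rw [← cancel_mono (g ≪≫ g0).inv, Limits.zero_comp, Category.assoc, Iso.hom_inv_id, Category.comp_id] at hz
    have hFz : IsZero (Ft (kernel f) 1) := by
      rw [IsZero.iff_id_eq_zero, ← cancel_mono ((ftFun (n := n) (k := k) 1).map (kernel.ι f))]
      exact (Category.id_comp _).trans (hz.trans Limits.zero_comp.symm)
    obtain ⟨g'⟩ := nonempty_Ft_Ft (kernel f) 1 (-1) 0 (by norm_num)
    have hKz : IsZero (kernel f) := IsZero.of_iso ((ftFun (n := n) (k := k) (-1)).map_isZero hFz)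
      ((nonempty_Ft_zero (kernel f)).some.symm ≪≫ g'.symm)
    rw [← kernel.lift_ι f x hx, hKz.eq_zero_of_tgt (kernel.lift f x hx), Limits.zero_comp]
  exact ⟨f, hmono, by exact_mod_cast Snapper.dim_le_of_dimLT (QCoh.isClosed_support_of_isCoh hC) hC1⟩

end Dim

variable {L : X.Modules} (hL : Nonempty (L ≅ (Scheme.Modules.pullback i).obj (Twist.twistProjSpace n k 1)))
include hL

/-- The Hilbert polynomial gives the Euler characteristic of every twist on projective space. -/
theorem euler_push_eq {F : X.Modules} (hF : Coh.IsCoh F) {Q : ℚ[X]} (hQ : ShStab.IsHilbPoly k X L F Q) (t : ℤ) :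
    (Curv2.euler k (CohB1.ProjSpace n k) (Ft ((Scheme.Modules.pushforward i).obj F) t) : ℚ) = Q.eval (t : ℚ) := by
  haveI := isProper_of_closed i hi
  haveI := Euler.isNoetherian_of_proper (X := X) k
  obtain ⟨R, hR⟩ := exists_hilbertPolynomial (FormalExist7.isCoh_pushforward i hF)
  have hRQ : R = Q := Hilb20.eq_of_forall_nat_eval fun m => by
    rw [← hQ m, ← Regularity.euler_push_Ft i hL hi hF m]
    exact_mod_cast (hR (m : ℤ)).symm
  rw [hR t, hRQ]

variable [IsIntegral X] (hdim : topologicalKrullDim X ≤ 1) (hLa : CohB1.IsAmple L)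
include hdim hLa

/-- Semistable modules have no sections in very negative twists. -/
theorem h0_eq_zero {E : X.Modules} (hE : ShStab.IsSemistable k X L E 1) {P : ℚ[X]}
    (hP : ShStab.IsHilbPoly k X L E P) {j : ℤ}
    (hj : P.eval (j : ℚ) + alpha 1 P * (Module.finrank k (Coh.HH (CohB1.ProjSpace n k)
      (Ft ((Scheme.Modules.pushforward i).obj (Coh.structureModule X)) 0) 1) : ℚ) < 0) :
    Module.finrank k (Coh.HH (CohB1.ProjSpace n k) (Ft ((Scheme.Modules.pushforward i).obj E) j) 0) = 0 := by
  haveI := isProper_of_closed i hi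
  haveI := Euler.isNoetherian_of_proper (X := X) k
  let G := (Scheme.Modules.pushforward i).obj E
  have hGc : Coh.IsCoh G := FormalExist7.isCoh_pushforward i hE.1
  by_contra hne
  haveI : Nontrivial (Coh.HH (CohB1.ProjSpace n k) (Ft G j) 0) :=
    Module.nontrivial_of_finrank_pos (Nat.pos_of_ne_zero hne)
  obtain ⟨e0⟩ := nonempty_twist_zero (n := n) (k := k)
  obtain ⟨u1⟩ := nonempty_twist_add (n := n) (k := k) (add_neg_cancel (-j))
  obtain ⟨u2⟩ := nonempty_twist_add (n := n) (k := k) (neg_add_cancel (-j))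
  obtain ⟨g⟩ := nonempty_Ft_Ft G j (-j) 0 (add_neg_cancel j)
  obtain ⟨g0⟩ := nonempty_Ft_zero G
  obtain ⟨Eq⟩ := SerrePn27.nonempty_hom_equiv_of_tensor (k := k) (X := CohB1.ProjSpace n k)
    (L := Twist.twistProjSpace n k (-j)) (M := Twist.twistProjSpace n k (-(-j))) (A := Twist.twistProjSpace n k (-j))
    (B := G) (E := Ft G j) (u1 ≪≫ e0) (u2 ≪≫ e0)
    (OX.tensorUnitLeftIso (X := CohB1.ProjSpace n k) (Twist.twistProjSpace n k (-j))) (g ≪≫ g0)
  obtain ⟨x, hx⟩ := exists_ne (0 : Coh.HH (CohB1.ProjSpace n k) (Ft G j) 0)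
  let adj := Scheme.Modules.pullbackPushforwardAdjunction i
  let s : Twist.twistProjSpace n k (-j) ⟶ G := Eq.symm x
  have hs : s ≠ 0 := fun h => hx (by rw [← Eq.apply_symm_apply x, show Eq.symm x = 0 from h, map_zero])
  let T := (Scheme.Modules.pullback i).obj (Twist.twistProjSpace n k (-j))
  let h : T ⟶ E := (adj.homEquiv _ _).symm s
  have hh : h ≠ 0 := fun h0 => hs (by
    have h1 : adj.homEquiv _ _ h = s := Equiv.apply_symm_apply _ _
    rw [← h1, h0, Adjunction.homEquiv_unit]
    exact (congrArg (adj.unit.app _ ≫ ·) ((Scheme.Modules.pushforward i).map_zero _ _)).trans Limits.comp_zero)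
  have hT : Coh.IsCoh T := Euler.isCoh_of_isInvertible (Ample.isInvertible_pullback i (isInvertible_twist (-j)))
  have hI : Coh.IsCoh (Abelian.image h) := Hilb20.isCoh_image (k := k) h hT hE.1
  have hI0 : ¬ IsZero (Abelian.image h) := fun hz => hh (by
    rw [← Abelian.image.fac h, hz.eq_zero_of_tgt (Abelian.factorThruImage h), Limits.zero_comp])
  obtain ⟨Q, hQ⟩ := Hilb20.exists_isHilbPoly_sub (k := k) hLa hE.2.2.1 (Abelian.image.ι h) hI
  have hle : StabCat.RedLE 1 Q P := by
    by_cases hiso : IsIso (Abelian.image.ι h)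
    · obtain rfl := Hilb20.isHilbPoly_unique (Hilb20.isHilbPoly_congr (asIso (Abelian.image.ι h)) hQ) hP
      exact ⟨0, fun m _ => le_rfl⟩
    · exact hE.2.2.2 _ (Abelian.image.ι h) inferInstance hI hI0 hiso Q P hQ hP
  -- linear polynomials
  have hlin : ∀ {R : ℚ[X]} {M : X.Modules}, Coh.IsCoh M → DimLT (CohB1.support M) 2 →
      ShStab.IsHilbPoly k X L M R → ∀ t : ℚ, R.eval t = alpha 1 R * t + R.coeff 0 := by
    intro R M hM hd hR t
    have h1 : R.degree < ((2 : ℕ) : WithBot ℕ) := Hilb20.degree_lt_of_dimLT hLa.1 hM hd hR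
    rw [eq_X_add_C_of_degree_le_one (p := R) (degree_le_one h1)]
    simp [alpha]
  have hdE := Hilb20.isPure_self_dimLT hE.1 hE.2.2.1
  have hdI : DimLT (CohB1.support (Abelian.image h)) 2 := Hilb20.isPure_dimLT hE.2.2.1 (Abelian.image.ι h) hI
  have hαP := Hilb20.alpha_pos_self hLa hE.1 hE.2.1 hE.2.2.1 hP
  have hαQ : 1 ≤ alpha 1 Q := by
    have h1 := Hilb20.alpha_pos_of_pure hLa hE.2.2.1 (Abelian.image.ι h) hI hI0 hQ
    obtain ⟨z, hz⟩ := Hilb20.exists_int_alpha hQ (Hilb20.degree_lt_of_dimLT hLa.1 hI hdI hQ)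
    rw [← hz] at h1 ⊢
    exact_mod_cast h1
  obtain ⟨N, hN⟩ := hle
  have hb : alpha 1 P * Q.coeff 0 ≤ alpha 1 Q * P.coeff 0 := by
    have h1 := hN N le_rfl
    simp only [eval_smul, smul_eq_mul, hlin hI hdI hQ, hlin hE.1 hdE hP] at h1
    linarith
  -- the Euler characteristic of a quotient of a twisted structure module
  have hchi : -(Module.finrank k (Coh.HH (CohB1.ProjSpace n k)
      (Ft ((Scheme.Modules.pushforward i).obj (Coh.structureModule X)) 0) 1) : ℚ) ≤ Q.eval (j : ℚ) := by
    let S : ShortComplex X.Modules := ShortComplex.mk (kernel.ι (Abelian.factorThruImage h))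
      (Abelian.factorThruImage h) (kernel.condition _)
    have hS : S.ShortExact := { exact := ShortComplex.exact_of_f_is_kernel _ (kernelIsKernel _) }
    have hK : Coh.IsCoh S.X₁ := QCoh.isCoh_kernel _ hT hI
    haveI := hK.1
    haveI : (Scheme.Modules.pushforward i).Additive :=
      (Scheme.Modules.pullbackPushforwardAdjunction i).right_adjoint_additive
    have hSp : (S.map (Scheme.Modules.pushforward i)).ShortExact :=
      Cohom.pushforward_map_shortExact i hS (Cohom.acyclicOn_of_isAffineHom i _)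
    have hSj := ft_shortExact hSp j
    haveI : Subsingleton (Coh.HH (CohB1.ProjSpace n k) ((S.map (Scheme.Modules.pushforward i)).map (ftFun j)).X₁ 2) :=
      subsingleton_two_le i hi hdim _ hK j 2 le_rfl
    have hsurj : Function.Surjective
        (hhMap k ((S.map (Scheme.Modules.pushforward i)).map (ftFun j)).g 1) := fun x =>
      ((Cohom.exact₃ (A := k) hSj 1) x).1 (Subsingleton.elim _ _)
    haveI : FiniteDimensional k
        (Coh.HH (CohB1.ProjSpace n k) ((S.map (Scheme.Modules.pushforward i)).map (ftFun j)).X₂ 1) :=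
      finiteDimensional_Ft (FormalExist7.isCoh_pushforward i hT) j 1
    have hr := LinearMap.finrank_range_le (hhMap k ((S.map (Scheme.Modules.pushforward i)).map (ftFun j)).g 1)
    rw [LinearMap.range_eq_top.2 hsurj, finrank_top] at hr
    obtain ⟨p⟩ := Regularity.nonempty_push_tensor i
      (Euler.isFinLocFree_of_isInvertible (isInvertible_twist (n := n) (k := k) (-j))) (Coh.structureModule X)
      (Iso.refl T)
    obtain ⟨q⟩ := nonempty_Ft_Ft ((Scheme.Modules.pushforward i).obj (Coh.structureModule X)) (-j) j 0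
      (neg_add_cancel j)
    have he : Ft ((Scheme.Modules.pushforward i).obj T) j ≅
        Ft ((Scheme.Modules.pushforward i).obj (Coh.structureModule X)) 0 :=
      Ample.LineData.tensorModMapIso ((Scheme.Modules.pushforward i).mapIso (OX.tensorUnitLeftIso T).symm ≪≫ p)
        (Iso.refl _) ≪≫ q
    have hr' : Module.finrank k (Coh.HH (CohB1.ProjSpace n k) (Ft ((Scheme.Modules.pushforward i).obj (Abelian.image h)) j) 1) ≤
        Module.finrank k (Coh.HH (CohB1.ProjSpace n k) (Ft ((Scheme.Modules.pushforward i).obj T) j) 1) := hr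
    rw [(Euler.hhEquiv (A := k) he 1).finrank_eq] at hr'
    rw [← euler_push_eq i hi hL hI hQ j,
      Euler.euler_eq_sum k _ (N := 2) (fun q hq => subsingleton_two_le i hi hdim _ hI j q hq)]
    simp only [Finset.sum_range_succ, Finset.sum_range_zero]
    push_cast
    have : ((Module.finrank k (Coh.HH (CohB1.ProjSpace n k) (Ft ((Scheme.Modules.pushforward i).obj (Abelian.image h)) j) 1) : ℕ) : ℚ) ≤ _ :=
      Nat.cast_le.2 hr'
    nlinarith
  rw [hlin hI hdI hQ] at hchi
  rw [hlin hE.1 hdE hP] at hj
  have hc0 : (0 : ℚ) ≤ (Module.finrank k (Coh.HH (CohB1.ProjSpace n k)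
      (Ft ((Scheme.Modules.pushforward i).obj (Coh.structureModule X)) 0) 1) : ℚ) := by positivity
  have h2 := mul_le_mul_of_nonneg_left hchi hαP.le
  have h3 := mul_lt_mul_of_pos_left hj (lt_of_lt_of_le one_pos hαQ)
  have h4 := mul_nonneg (mul_nonneg hαP.le hc0) (sub_nonneg.2 hαQ)
  nlinarith

/-- Semistable modules of dimension one with a given Hilbert polynomial are uniformly regular. -/
theorem exists_regular_one (P : ℚ[X]) :
    ∃ m : ℤ, ∀ E : X.Modules, ShStab.IsSemistable k X L E 1 → ShStab.IsHilbPoly k X L E P →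
      Curv2.IsMRegular k n ((Scheme.Modules.pushforward i).obj E) m := by
  by_cases hex : ∃ E : X.Modules, ShStab.IsSemistable k X L E 1 ∧ ShStab.IsHilbPoly k X L E P
  swap
  · exact ⟨0, fun E h1 h2 => absurd ⟨E, h1, h2⟩ hex⟩
  obtain ⟨E₀, hE₀, hP₀⟩ := hex
  haveI := isProper_of_closed i hi
  haveI := Euler.isNoetherian_of_proper (X := X) k
  have hα := Hilb20.alpha_pos_self hLa hE₀.1 hE₀.2.1 hE₀.2.2.1 hP₀
  let c : ℚ := Module.finrank k (Coh.HH (CohB1.ProjSpace n k)
      (Ft ((Scheme.Modules.pushforward i).obj (Coh.structureModule X)) 0) 1)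
  have h1 : P.degree < ((2 : ℕ) : WithBot ℕ) :=
    Hilb20.degree_lt_of_dimLT hLa.1 hE₀.1 (Hilb20.isPure_self_dimLT hE₀.1 hE₀.2.2.1) hP₀
  let j : ℤ := ⌊(-(alpha 1 P * c) - P.coeff 0) / alpha 1 P⌋ - 1
  have hj : P.eval (j : ℚ) + alpha 1 P * c < 0 := by
    rw [eq_X_add_C_of_degree_le_one (p := P) (degree_le_one h1)]
    have h2 : (j : ℚ) < (-(alpha 1 P * c) - P.coeff 0) / alpha 1 P := by
      have := Int.floor_le ((-(alpha 1 P * c) - P.coeff 0) / alpha 1 P)
      push_cast [j]; linarith
    rw [lt_div_iff₀ hα] at h2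
    simp [alpha] at h2 hα ⊢
    nlinarith
  obtain ⟨M, hM⟩ : ∃ M : ℕ, -P.eval (j : ℚ) ≤ (M : ℚ) := exists_nat_ge _
  refine ⟨j + 1 + M, fun E hE hP => ?_⟩
  obtain ⟨ι, hι, hC⟩ := exists_linear i hi hdim hE.1 hE.2.2.1
  haveI := hι
  have hG : Coh.IsCoh ((Scheme.Modules.pushforward i).obj E) := FormalExist7.isCoh_pushforward i hE.1
  have hCc : Coh.IsCoh (cokernel ι) := QCoh.isCoh_cokernel ι (isCoh_Ft hG (-1)) hG
  have hC' : ∀ q : ℕ, 1 ≤ q → q ≤ n →
      Subsingleton (Coh.HH (CohB1.ProjSpace n k) (Ft (cokernel ι) (j + 1 - q)) q) :=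
    fun q hq _ => subsingleton_Ft_of_support_dim_le_zero hCc hC _ hq
  have hh : (h1dim ((Scheme.Modules.pushforward i).obj E) (j + 1 - 1) : ℤ) ≤ M := by
    rw [show j + 1 - 1 = j by ring]
    have h0 := h0_eq_zero i hi hL hdim hLa hE hP hj
    have he := euler_push_eq i hi hL hE.1 hP j
    rw [Euler.euler_eq_sum k _ (N := 2) (fun q hq => subsingleton_two_le i hi hdim _ hE.1 j q hq)] at he
    simp only [Finset.sum_range_succ, Finset.sum_range_zero, h0] at he
    push_cast at he
    have : (h1dim ((Scheme.Modules.pushforward i).obj E) j : ℚ) ≤ (M : ℚ) := by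
      show (Module.finrank k _ : ℚ) ≤ _
      linarith
    exact_mod_cast this
  exact fun q hq _ => propagate hG _ (fun l hl _ => regular_of_extension hG hC' l hl) q _ hq
    (by simp only [sub_le_sub_iff_right]; omega)

/-- **Semistable modules on a curve with a given Hilbert polynomial form a bounded family.** -/
theorem isBounded_semistable_curve (P : ℚ[X]) :
    Pic13.IsBounded k X (fun E =>
      (ShStab.IsSemistable k X L E 0 ∨ ShStab.IsSemistable k X L E 1) ∧ ShStab.IsHilbPoly k X L E P) := by
  haveI := isProper_of_closed i hi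
  haveI := Euler.isNoetherian_of_proper (X := X) k
  obtain ⟨m, hm⟩ := exists_regular_one i hi hL hdim hLa P
  refine isBounded_mono (isBounded_regular_closed i hi m ⌊P.eval (m : ℚ)⌋.toNat) ?_
  rintro E ⟨hE, hP⟩
  have hc : Coh.IsCoh E := hE.elim (·.1) (·.1)
  have hG : Coh.IsCoh ((Scheme.Modules.pushforward i).obj E) := FormalExist7.isCoh_pushforward i hc
  have hreg : Curv2.IsMRegular k n ((Scheme.Modules.pushforward i).obj E) m := by
    rcases hE with h0 | h1
    · refine isMRegular_push i hi hc fun q hq => ?_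
      have hinv := Ample.isInvertible_pullback i (isInvertible_twist (n := n) (k := k) (m - q))
      have hsub : CohB1.support (Pic13.twistOn k i E (m - q)) ⊆ CohB1.support E :=
        Euler.support_tF_subset (Euler.isFinLocFreeOfRank_one' hinv)
      have hF : Coh.IsCoh (Pic13.twistOn k i E (m - q)) := CMReg.isCoh_tensorMod hc hinv
      exact Euler.subsingleton_HH_of_support_dim_le_zero k hF
        ((Snapper.dim_le_of_dimLT (QCoh.isClosed_support_of_isCoh hF) (d := 0)
          ((Hilb20.isPure_self_dimLT hc h0.2.2.1).mono hsub)).trans (le_of_eq Nat.cast_zero)) q hq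
    · exact hm E h1 hP
  refine ⟨hc, hreg, ?_⟩
  have he := euler_push_eq i hi hL hc hP m
  rw [Euler.euler_eq_sum k _ (N := 1) (fun q hq => propagate hG m hreg q m hq (by omega))] at he
  rw [← he]
  simp

end GrothLib.BddFam20
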