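import Groth.Agent.Lib.FunMor20.Scalar
import Groth.Agent.Lib.GeomSS.Main
import Groth.Agent.Lib.QCoh.SupportExact
import Groth.Prelude.Def_Pic13

/-!
# Cokernels of a finite dimensional space of maps form a bounded family
-/

set_option autoImplicit false
set_option linter.style.haveILetI false
set_option linter.unusedSectionVars false
set_option maxHeartbeats 1000000
set_option backward.isDefEq.respectTransparency.types false

universe u

open CategoryTheory CategoryTheory.Limits AlgebraicGeometry Opposite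

noncomputable section

namespace GrothLib.BddFam20

variable {k : Type u} [Field k] {X : Scheme.{u}} [X.Over (Spec (CommRingCat.of k))]

theorem isBounded_mono {P Q : X.Modules → Prop} (hQ : Pic13.IsBounded k X Q) (h : ∀ F, P F → Q F) :
    Pic13.IsBounded k X P := by
  obtain ⟨T, q, h1, h2, F, hF, hall⟩ := hQ
  exact ⟨T, q, h1, h2, F, hF, fun M hM => hall M (h M hM)⟩

variable (k) in
/-- The affine space of coefficient vectors. -/
abbrev coefSpace (r : ℕ) : Scheme.{u} := Spec (CommRingCat.of (MvPolynomial (Fin r) k))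

variable (k) in
/-- Its structure morphism. -/
abbrev coefStr (r : ℕ) : coefSpace k r ⟶ Spec (CommRingCat.of k) :=
  Spec.map (CommRingCat.ofHom (algebraMap k (MvPolynomial (Fin r) k)))

instance locallyOfFiniteType_coefStr (r : ℕ) : LocallyOfFiniteType (coefStr k r) := by
  rw [HasRingHomProperty.Spec_iff (P := @LocallyOfFiniteType)]
  show (algebraMap k (MvPolynomial (Fin r) k)).FiniteType
  rw [RingHom.finiteType_algebraMap]
  infer_instance

variable (k) in
/-- The point of a coefficient vector. -/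
abbrev coefPt {r : ℕ} (c : Fin r → k) : Spec (CommRingCat.of k) ⟶ coefSpace k r :=
  Spec.map (CommRingCat.ofHom (MvPolynomial.eval c))

theorem coefPt_coefStr {r : ℕ} (c : Fin r → k) : coefPt k c ≫ coefStr k r = 𝟙 _ := by
  rw [← Spec.map_comp, ← Spec.map_id]
  congr 1
  ext a
  exact MvPolynomial.eval_C (f := c) a

/-- **The cokernels of the combinations of finitely many maps form a bounded family.** -/
theorem isBounded_cokernel [LocallyOfFiniteType (X ↘ Spec (CommRingCat.of k))]
    [QuasiCompact (X ↘ Spec (CommRingCat.of k))] {R A : X.Modules} (hR : Coh.IsCoh R) (hA : Coh.IsCoh A) {r : ℕ}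
    (φ : Fin r → (R ⟶ A)) :
    Pic13.IsBounded k X (fun F => ∃ c : Fin r → k, Nonempty (cokernel (∑ l, c l • φ l) ≅ F)) := by
  let q := coefStr k r
  let pr : Pic13.prodK k X q ⟶ X := pullback.fst _ _
  haveI : IsLocallyNoetherian (Pic13.prodK k X q) :=
    LocallyOfFiniteType.isLocallyNoetherian (pullback.snd (X ↘ Spec (CommRingCat.of k)) q)
  let P := Scheme.Modules.pullback pr
  let s : Fin r → Γ(Pic13.prodK k X q, ⊤) := fun l =>
    (pullback.snd (X ↘ Spec (CommRingCat.of k)) q).appTop
      ((Scheme.ΓSpecIso (CommRingCat.of (MvPolynomial (Fin r) k))).inv (MvPolynomial.X l))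
  let Ψ : P.obj R ⟶ P.obj A := ∑ l, Formal.smulModΓ (P.obj R) (s l) ≫ P.map (φ l)
  refine ⟨coefSpace k r, q, inferInstance, inferInstance, cokernel Ψ,
    QCoh.isCoh_cokernel Ψ (GeomSS.isCoh_pullback' pr hR) (GeomSS.isCoh_pullback' pr hA), ?_⟩
  rintro F ⟨c, ⟨e⟩⟩
  refine ⟨coefPt k c, coefPt_coefStr c, ?_⟩
  let σ := Pic13.sliceAt k X q (coefPt k c) (coefPt_coefStr c)
  have hσ : σ ≫ pr = 𝟙 X := pullback.lift_fst _ _ _
  let η : P ⋙ Scheme.Modules.pullback σ ≅ 𝟭 X.Modules :=
    Scheme.Modules.pullbackComp σ pr ≪≫ Scheme.Modules.pullbackCongr hσ ≪≫ Scheme.Modules.pullbackId X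
  haveI : (Scheme.Modules.pullback σ).IsLeftAdjoint :=
    (Scheme.Modules.pullbackPushforwardAdjunction σ).isLeftAdjoint
  have hs : ∀ l, σ.appTop (s l) = Coh.toGlobal (X ↘ Spec (CommRingCat.of k)) (c l) := fun l => by
    show ((pullback.snd (X ↘ Spec (CommRingCat.of k)) q).appTop ≫ σ.appTop) _ = _
    rw [← Scheme.Hom.comp_appTop,
      show σ ≫ pullback.snd (X ↘ Spec (CommRingCat.of k)) q = (X ↘ Spec (CommRingCat.of k)) ≫ coefPt k c from
        pullback.lift_snd _ _ _, Scheme.Hom.comp_appTop, CommRingCat.comp_apply]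
    refine congrArg (X ↘ Spec (CommRingCat.of k)).appTop ?_
    rw [← CommRingCat.comp_apply, ← Scheme.ΓSpecIso_inv_naturality, CommRingCat.comp_apply]
    exact congrArg _ (MvPolynomial.eval_X (f := c) l)
  have hΨ : (Scheme.Modules.pullback σ).map Ψ ≫ η.hom.app A = η.hom.app R ≫ ∑ l, c l • φ l := by
    rw [Functor.map_sum, Preadditive.sum_comp, Preadditive.comp_sum]
    refine Finset.sum_congr rfl fun l _ => ?_
    rw [Functor.map_comp, Category.assoc, FunMor20.pullback_map_smulModΓ, hs, KLin.smul_def]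
    rw [show (Scheme.Modules.pullback σ).map (P.map (φ l)) ≫ η.hom.app A = η.hom.app R ≫ φ l from
      η.hom.naturality (φ l)]
    rw [← Category.assoc, ← Category.assoc]
    congr 1
    exact (KLin.comp_smulModΓ (η.hom.app R) _).symm
  exact ⟨PreservesCokernel.iso (Scheme.Modules.pullback σ) Ψ ≪≫
    cokernel.mapIso _ _ (η.app R) (η.app A) hΨ ≪≫ e⟩

end GrothLib.BddFam20
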