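import Groth.Agent.Lib.BddFam20.Curve
import Groth.Agent.Lib.BddFam20.Quotients
import Groth.Agent.Lib.Regularity10.Bound

/-!
# Boundedness on projective curves from a bound on submodules
-/

set_option autoImplicit false
set_option linter.style.haveILetI false
set_option linter.unusedSectionVars false
set_option maxHeartbeats 1000000
set_option backward.isDefEq.respectTransparency false

universe u

open CategoryTheory CategoryTheory.Limits AlgebraicGeometry Polynomial TopologicalSpace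
open GrothLib.CMReg
open GrothLib.Snapper (DimLT)
open GrothLib.Cohom (hhMap)
open StabCat (alpha)

noncomputable section

namespace GrothLib.BddFam20

variable {n : ℕ} {k : Type u} [Field k] {X : Scheme.{u}} [X.Over (Spec (CommRingCat.of k))]
  (i : X ⟶ CohB1.ProjSpace n k) [IsClosedImmersion i]
  (hi : i ≫ CohB1.ProjSpace.toSpec n k = X ↘ Spec (CommRingCat.of k))

include hi

/-- A linear form is injective on a pure module with zero-dimensional cokernel. -/
theorem exists_linear_infinite [Infinite k] (hdim : topologicalKrullDim X ≤ 1) {E : X.Modules} (hE : Coh.IsCoh E)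
    (hp : ShStab.IsPure X E 1) :
    ∃ ι : CohB1.tensorMod ((Scheme.Modules.pushforward i).obj E) (Twist.twistProjSpace n k (-1)) ⟶
        (Scheme.Modules.pushforward i).obj E,
      Mono ι ∧ topologicalKrullDim (CohB1.support (cokernel ι)) ≤ 0 := by
  haveI := isProper_of_closed i hi
  haveI := Euler.isNoetherian_of_proper (X := X) k
  let G := (Scheme.Modules.pushforward i).obj E
  have hG : Coh.IsCoh G := FormalExist7.isCoh_pushforward i hE
  haveI := hG.1
  haveI := (isCoh_Ft hG (-1)).1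
  let Mx : Set (CohB1.ProjSpace n k) := {x | x ∈ CohB1.support G ∧ ∀ y ∈ CohB1.support G, y ⤳ x → y = x}
  have hMx : Mx.Finite :=
    Snapper.finite_of_maximal (QCoh.isClosed_support_of_isCoh hG) (fun x hx => hx.1) (fun x hx => hx.2)
  obtain ⟨a, ha⟩ := Regularity.exists_sect_one_avoid (n := n) (k := k) hMx
  let f := Regularity.mulLin a G
  have hK : Coh.IsCoh (kernel f) := QCoh.isCoh_kernel f (isCoh_Ft hG (-1)) hG
  have hC : Coh.IsCoh (cokernel f) := QCoh.isCoh_cokernel f (isCoh_Ft hG (-1)) hG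
  have hd : DimLT (CohB1.support G) 2 := (dimLT_range i hdim).mono (QCoh.support_pushforward_subset_range i E)
  have hsub : ∀ S : Set (CohB1.ProjSpace n k), S ⊆ CohB1.support G →
      (∀ x ∈ S, x ∉ (cc n k).locus a) → DimLT S 1 := fun S hS hSa => by
    refine Snapper.dimLT_of_maximal_mem hd hS fun x hx => ?_
    by_contra hno
    push Not at hno
    exact hSa x hx (ha x ⟨hS hx, hno⟩)
  have hK1 : DimLT (CohB1.support (kernel f)) 1 :=
    hsub _ ((QCoh.support_subset_of_mono (kernel.ι f)).trans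
      (support_tensorMod_subset (X := CohB1.ProjSpace n k) G _ (isInvertible_twist (-1)))) fun x hx h =>
        QCoh.notMem_support_kernel_of_injective f (Regularity.bijective_mulLin a G h).1 hx
  have hC1 : DimLT (CohB1.support (cokernel f)) 1 :=
    hsub _ (QCoh.support_subset_of_epi (cokernel.π f)) fun x hx h =>
        QCoh.notMem_support_cokernel_of_surjective f (Regularity.bijective_mulLin a G h).2 hx
  have hmono : Mono f := by
    refine Preadditive.mono_of_cancel_zero _ fun {P} x hx => ?_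
    obtain ⟨g⟩ := nonempty_Ft_Ft G (-1) 1 0 (by norm_num)
    obtain ⟨g0⟩ := nonempty_Ft_zero G
    have hS0 : (ShortComplex.mk (kernel.ι f) (cokernel.π (kernel.ι f)) (cokernel.condition _)).ShortExact :=
      { exact := ShortComplex.exact_of_g_is_cokernel _ (cokernelIsCokernel _) }
    haveI : Mono ((ftFun (n := n) (k := k) 1).map (kernel.ι f)) := (ft_shortExact hS0 1).mono_f
    have hz := hom_push_eq_zero i hi hE le_rfl hp (isCoh_Ft hK 1)
      (hK1.mono (support_tensorMod_subset (X := CohB1.ProjSpace n k) _ _ (isInvertible_twist 1)))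
      ((ftFun (n := n) (k := k) 1).map (kernel.ι f) ≫ (g ≪≫ g0).hom)
    rw [← cancel_mono (g ≪≫ g0).inv, Limits.zero_comp, Category.assoc, Iso.hom_inv_id, Category.comp_id] at hz
    have hFz : IsZero (Ft (kernel f) 1) := by
      rw [IsZero.iff_id_eq_zero, ← cancel_mono ((ftFun (n := n) (k := k) 1).map (kernel.ι f))]
      exact (Category.id_comp _).trans (hz.trans Limits.zero_comp.symm)
    obtain ⟨g'⟩ := nonempty_Ft_Ft (kernel f) 1 (-1) 0 (by norm_num)
    have hKz : IsZero (kernel f) := IsZero.of_iso ((ftFun (n := n) (k := k) (-1)).map_isZero hFz)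
      ((nonempty_Ft_zero (kernel f)).some.symm ≪≫ g'.symm)
    rw [← kernel.lift_ι f x hx, hKz.eq_zero_of_tgt (kernel.lift f x hx), Limits.zero_comp]
  exact ⟨f, hmono, by exact_mod_cast Snapper.dim_le_of_dimLT (QCoh.isClosed_support_of_isCoh hC) hC1⟩

variable {L : X.Modules} (hL : Nonempty (L ≅ (Scheme.Modules.pullback i).obj (Twist.twistProjSpace n k 1)))
  (hdim : topologicalKrullDim X ≤ 1) (hLa : CohB1.IsAmple L)
include hL hdim hLa

/-- A pure module has no sections in a twist where all its submodules have very negative Euler characteristic. -/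
theorem h0_eq_zero_of_eval {E : X.Modules} (hEc : Coh.IsCoh E) (hp : ShStab.IsPure X E 1) {j : ℤ}
    (hC : ∀ (G : X.Modules) (ι : G ⟶ E), Mono ι → Coh.IsCoh G → ¬ IsZero G →
      ∀ Q : ℚ[X], ShStab.IsHilbPoly k X L G Q → Q.eval (j : ℚ) + (Module.finrank k (Coh.HH (CohB1.ProjSpace n k)
      (Ft ((Scheme.Modules.pushforward i).obj (Coh.structureModule X)) 0) 1) : ℚ) < 0) :
    Module.finrank k (Coh.HH (CohB1.ProjSpace n k) (Ft ((Scheme.Modules.pushforward i).obj E) j) 0) = 0 := by
  haveI := isProper_of_closed i hi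
  haveI := Euler.isNoetherian_of_proper (X := X) k
  let G := (Scheme.Modules.pushforward i).obj E
  have hGc : Coh.IsCoh G := FormalExist7.isCoh_pushforward i hEc
  by_contra hne
  haveI : Nontrivial (Coh.HH (CohB1.ProjSpace n k) (Ft G j) 0) :=
    Module.nontrivial_of_finrank_pos (Nat.pos_of_ne_zero hne)
  obtain ⟨e0⟩ := nonempty_twist_zero (n := n) (k := k)
  obtain ⟨u1⟩ := nonempty_twist_add (n := n) (k := k) (add_neg_cancel (-j))
  obtain ⟨u2⟩ := nonempty_twist_add (n := n) (k := k) (neg_add_cancel (-j))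
  obtain ⟨g⟩ := nonempty_Ft_Ft G j (-j) 0 (add_neg_cancel j)
  obtain ⟨g0⟩ := nonempty_Ft_zero G
  obtain ⟨Eq⟩ := SerrePn27.nonempty_hom_equiv_of_tensor (k := k) (X := CohB1.ProjSpace n k)
    (L := Twist.twistProjSpace n k (-j)) (M := Twist.twistProjSpace n k (-(-j))) (A := Twist.twistProjSpace n k (-j))
    (B := G) (E := Ft G j) (u1 ≪≫ e0) (u2 ≪≫ e0)
    (OX.tensorUnitLeftIso (X := CohB1.ProjSpace n k) (Twist.twistProjSpace n k (-j))) (g ≪≫ g0)
  obtain ⟨x, hx⟩ := exists_ne (0 : Coh.HH (CohB1.ProjSpace n k) (Ft G j) 0)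
  let adj := Scheme.Modules.pullbackPushforwardAdjunction i
  let s : Twist.twistProjSpace n k (-j) ⟶ G := Eq.symm x
  have hs : s ≠ 0 := fun h => hx (by rw [← Eq.apply_symm_apply x, show Eq.symm x = 0 from h, map_zero])
  let T := (Scheme.Modules.pullback i).obj (Twist.twistProjSpace n k (-j))
  let h : T ⟶ E := (adj.homEquiv _ _).symm s
  have hh : h ≠ 0 := fun h0 => hs (by
    have h1 : adj.homEquiv _ _ h = s := Equiv.apply_symm_apply _ _
    rw [← h1, h0, Adjunction.homEquiv_unit]
    exact (congrArg (adj.unit.app _ ≫ ·) ((Scheme.Modules.pushforward i).map_zero _ _)).trans Limits.comp_zero)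
  have hT : Coh.IsCoh T := Euler.isCoh_of_isInvertible (Ample.isInvertible_pullback i (isInvertible_twist (-j)))
  have hI : Coh.IsCoh (Abelian.image h) := Hilb20.isCoh_image (k := k) h hT hEc
  have hI0 : ¬ IsZero (Abelian.image h) := fun hz => hh (by
    rw [← Abelian.image.fac h, hz.eq_zero_of_tgt (Abelian.factorThruImage h), Limits.zero_comp])
  obtain ⟨Q, hQ⟩ := Hilb20.exists_isHilbPoly_sub (k := k) hLa hp (Abelian.image.ι h) hI
  have hb := hC _ (Abelian.image.ι h) inferInstance hI hI0 Q hQ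
  -- the Euler characteristic of a quotient of a twisted structure module
  have hchi : -(Module.finrank k (Coh.HH (CohB1.ProjSpace n k)
      (Ft ((Scheme.Modules.pushforward i).obj (Coh.structureModule X)) 0) 1) : ℚ) ≤ Q.eval (j : ℚ) := by
    let S : ShortComplex X.Modules := ShortComplex.mk (kernel.ι (Abelian.factorThruImage h))
      (Abelian.factorThruImage h) (kernel.condition _)
    have hS : S.ShortExact := { exact := ShortComplex.exact_of_f_is_kernel _ (kernelIsKernel _) }
    have hK : Coh.IsCoh S.X₁ := QCoh.isCoh_kernel _ hT hI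
    haveI := hK.1
    haveI : (Scheme.Modules.pushforward i).Additive :=
      (Scheme.Modules.pullbackPushforwardAdjunction i).right_adjoint_additive
    have hSp : (S.map (Scheme.Modules.pushforward i)).ShortExact :=
      Cohom.pushforward_map_shortExact i hS (Cohom.acyclicOn_of_isAffineHom i _)
    have hSj := ft_shortExact hSp j
    haveI : Subsingleton (Coh.HH (CohB1.ProjSpace n k) ((S.map (Scheme.Modules.pushforward i)).map (ftFun j)).X₁ 2) :=
      subsingleton_two_le i hi hdim _ hK j 2 le_rfl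
    have hsurj : Function.Surjective
        (hhMap k ((S.map (Scheme.Modules.pushforward i)).map (ftFun j)).g 1) := fun x =>
      ((Cohom.exact₃ (A := k) hSj 1) x).1 (Subsingleton.elim _ _)
    haveI : FiniteDimensional k
        (Coh.HH (CohB1.ProjSpace n k) ((S.map (Scheme.Modules.pushforward i)).map (ftFun j)).X₂ 1) :=
      finiteDimensional_Ft (FormalExist7.isCoh_pushforward i hT) j 1
    have hr := LinearMap.finrank_range_le (hhMap k ((S.map (Scheme.Modules.pushforward i)).map (ftFun j)).g 1)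
    rw [LinearMap.range_eq_top.2 hsurj, finrank_top] at hr
    obtain ⟨p⟩ := Regularity.nonempty_push_tensor i
      (Euler.isFinLocFree_of_isInvertible (isInvertible_twist (n := n) (k := k) (-j))) (Coh.structureModule X)
      (Iso.refl T)
    obtain ⟨q⟩ := nonempty_Ft_Ft ((Scheme.Modules.pushforward i).obj (Coh.structureModule X)) (-j) j 0
      (neg_add_cancel j)
    have he : Ft ((Scheme.Modules.pushforward i).obj T) j ≅
        Ft ((Scheme.Modules.pushforward i).obj (Coh.structureModule X)) 0 :=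
      Ample.LineData.tensorModMapIso ((Scheme.Modules.pushforward i).mapIso (OX.tensorUnitLeftIso T).symm ≪≫ p)
        (Iso.refl _) ≪≫ q
    have hr' : Module.finrank k (Coh.HH (CohB1.ProjSpace n k) (Ft ((Scheme.Modules.pushforward i).obj (Abelian.image h)) j) 1) ≤
        Module.finrank k (Coh.HH (CohB1.ProjSpace n k) (Ft ((Scheme.Modules.pushforward i).obj T) j) 1) := hr
    rw [(Euler.hhEquiv (A := k) he 1).finrank_eq] at hr'
    rw [← euler_push_eq i hi hL hI hQ j,
      Euler.euler_eq_sum k _ (N := 2) (fun q hq => subsingleton_two_le i hi hdim _ hI j q hq)]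
    simp only [Finset.sum_range_succ, Finset.sum_range_zero]
    push_cast
    have : ((Module.finrank k (Coh.HH (CohB1.ProjSpace n k) (Ft ((Scheme.Modules.pushforward i).obj (Abelian.image h)) j) 1) : ℕ) : ℚ) ≤ _ :=
      Nat.cast_le.2 hr'
    nlinarith
  linarith

/-- Pure modules with bounded submodules have no sections in very negative twists. -/
theorem h0_eq_zero_of_bound {E : X.Modules} (hEc : Coh.IsCoh E) (hp : ShStab.IsPure X E 1) {C : ℚ}
    (hC : ∀ (G : X.Modules) (ι : G ⟶ E), Mono ι → Coh.IsCoh G → ¬ IsZero G →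
      ∀ Q : ℚ[X], ShStab.IsHilbPoly k X L G Q → Q.eval 0 ≤ C) {j : ℤ} (hj0 : j ≤ 0)
    (hj : (j : ℚ) + C + (Module.finrank k (Coh.HH (CohB1.ProjSpace n k)
      (Ft ((Scheme.Modules.pushforward i).obj (Coh.structureModule X)) 0) 1) : ℚ) < 0) :
    Module.finrank k (Coh.HH (CohB1.ProjSpace n k) (Ft ((Scheme.Modules.pushforward i).obj E) j) 0) = 0 := by
  haveI := isProper_of_closed i hi
  haveI := Euler.isNoetherian_of_proper (X := X) k
  refine h0_eq_zero_of_eval i hi hL hdim hLa hEc hp fun G ι hι hG hG0 Q hQ => ?_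
  haveI := hι
  have hb := hC G ι hι hG hG0 Q hQ
  have hdG : DimLT (CohB1.support G) 2 := Hilb20.isPure_dimLT hp ι hG
  have hdeg : Q.degree < ((2 : ℕ) : WithBot ℕ) := Hilb20.degree_lt_of_dimLT hLa.1 hG hdG hQ
  have hαQ : 1 ≤ alpha 1 Q := by
    have h1 := Hilb20.alpha_pos_of_pure hLa hp ι hG hG0 hQ
    obtain ⟨z, hz⟩ := Hilb20.exists_int_alpha hQ hdeg
    rw [← hz] at h1 ⊢
    exact_mod_cast h1
  rw [eq_X_add_C_of_degree_le_one (degree_le_one hdeg)] at hb ⊢
  simp only [eval_add, eval_mul, eval_C, eval_X, mul_zero, zero_add, alpha, Nat.factorial_one, Nat.cast_one,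
    one_mul] at hb hαQ ⊢
  have hj' : (j : ℚ) ≤ 0 := by exact_mod_cast hj0
  nlinarith

/-- Sections grow at most linearly. -/
theorem h0_le_linear [Infinite k] {E : X.Modules} (hEc : Coh.IsCoh E) (hp : ShStab.IsPure X E 1) {P : ℚ[X]}
    (hP : ShStab.IsHilbPoly k X L E P) {j : ℤ}
    (hj : Module.finrank k (Coh.HH (CohB1.ProjSpace n k) (Ft ((Scheme.Modules.pushforward i).obj E) j) 0) = 0)
    (s : ℕ) :
    (Module.finrank k (Coh.HH (CohB1.ProjSpace n k) (Ft ((Scheme.Modules.pushforward i).obj E) (j + s)) 0) : ℚ) ≤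
      (s : ℚ) * alpha 1 P := by
  haveI := isProper_of_closed i hi
  haveI := Euler.isNoetherian_of_proper (X := X) k
  obtain ⟨ι, hι, hC⟩ := exists_linear_infinite i hi hdim hEc hp
  haveI := hι
  let G := (Scheme.Modules.pushforward i).obj E
  have hG : Coh.IsCoh G := FormalExist7.isCoh_pushforward i hEc
  have hCc : Coh.IsCoh (cokernel ι) := QCoh.isCoh_cokernel ι (isCoh_Ft hG (-1)) hG
  induction s with
  | zero =>
    rw [show j + ((0 : ℕ) : ℤ) = j by simp, hj]
    simp
  | succ s ih =>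
    have hS := ft_shortExact (extSeq_shortExact (ι := ι)) (j + ((s + 1 : ℕ) : ℤ))
    obtain ⟨g⟩ := nonempty_Ft_Ft G (-1) (j + ((s + 1 : ℕ) : ℤ)) (j + s) (by push_cast; ring)
    haveI : FiniteDimensional k (Coh.HH (CohB1.ProjSpace n k) ((extSeq ι).map (ftFun (j + ((s + 1 : ℕ) : ℤ)))).X₁ 0) :=
      finiteDimensional_Ft (isCoh_Ft hG (-1)) _ 0
    haveI : FiniteDimensional k (Coh.HH (CohB1.ProjSpace n k) ((extSeq ι).map (ftFun (j + ((s + 1 : ℕ) : ℤ)))).X₃ 0) :=
      finiteDimensional_Ft hCc _ 0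
    have h1 : Module.finrank k (Coh.HH (CohB1.ProjSpace n k) (Ft G (j + ((s + 1 : ℕ) : ℤ))) 0) ≤
        Module.finrank k (Coh.HH (CohB1.ProjSpace n k) (Ft (Ft G (-1)) (j + ((s + 1 : ℕ) : ℤ))) 0) +
          Module.finrank k (Coh.HH (CohB1.ProjSpace n k) (Ft (cokernel ι) (j + ((s + 1 : ℕ) : ℤ))) 0) :=
      haveI : FiniteDimensional k (Coh.HH (CohB1.ProjSpace n k) ((extSeq ι).map (ftFun (j + ((s + 1 : ℕ) : ℤ)))).X₂ 0) :=
        finiteDimensional_Ft hG _ 0
      finrank_le_of_exact (M := Coh.HH (CohB1.ProjSpace n k) ((extSeq ι).map (ftFun (j + ((s + 1 : ℕ) : ℤ)))).X₁ 0)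
        (N := Coh.HH (CohB1.ProjSpace n k) ((extSeq ι).map (ftFun (j + ((s + 1 : ℕ) : ℤ)))).X₂ 0)
        (P := Coh.HH (CohB1.ProjSpace n k) ((extSeq ι).map (ftFun (j + ((s + 1 : ℕ) : ℤ)))).X₃ 0)
        (Cohom.exact₂ (A := k) hS 0)
    rw [(Euler.hhEquiv (A := k) g 0).finrank_eq] at h1
    have h2 : (Module.finrank k (Coh.HH (CohB1.ProjSpace n k) (Ft (cokernel ι) (j + ((s + 1 : ℕ) : ℤ))) 0) : ℚ) =
        alpha 1 P := by
      have he := Regularity.euler_Ft_add (extSeq_shortExact (ι := ι)) (isCoh_Ft hG (-1)) hG hCc (j + ((s + 1 : ℕ) : ℤ))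
      have he' : Curv2.euler k (CohB1.ProjSpace n k) (Ft G (j + ((s + 1 : ℕ) : ℤ))) =
        Curv2.euler k (CohB1.ProjSpace n k) (Ft (Ft G (-1)) (j + ((s + 1 : ℕ) : ℤ))) +
          Curv2.euler k (CohB1.ProjSpace n k) (Ft (cokernel ι) (j + ((s + 1 : ℕ) : ℤ))) := he
      rw [Euler.euler_of_iso k g, Euler.euler_eq_sum k (Ft (cokernel ι) _) (N := 1)
        (fun q hq => subsingleton_Ft_of_support_dim_le_zero hCc hC _ hq)] at he'
      have he2 := congrArg (Int.cast : ℤ → ℚ) he'
      push_cast at he2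
      rw [euler_push_eq i hi hL hEc hP, euler_push_eq i hi hL hEc hP,
        eq_X_add_C_of_degree_le_one (p := P) (degree_le_one
          (Hilb20.degree_lt_of_dimLT hLa.1 hEc (Hilb20.isPure_self_dimLT hEc hp) hP))] at he2
      simp [alpha] at he2 ⊢
      linarith
    have h3 := (Nat.cast_le (α := ℚ)).2 h1
    rw [Nat.cast_add (R := ℚ)] at h3
    have h4 : ((s + 1 : ℕ) : ℚ) * alpha 1 P = (s : ℚ) * alpha 1 P + alpha 1 P := by push_cast; ring
    show (Module.finrank k (Coh.HH (CohB1.ProjSpace n k) (Ft G (j + ((s + 1 : ℕ) : ℤ))) 0) : ℚ) ≤ _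
    have ih' : (Module.finrank k (Coh.HH (CohB1.ProjSpace n k) (Ft G (j + (s : ℤ))) 0) : ℚ) ≤ (s : ℚ) * alpha 1 P := ih
    rw [h4]
    linarith

/-- Pure modules with bounded submodules and given Hilbert polynomial are uniformly regular. -/
theorem exists_regular_bound [Infinite k] (P : ℚ[X]) (C : ℚ) :
    ∃ m : ℤ, ∀ E : X.Modules, Coh.IsCoh E → ShStab.IsPure X E 1 → ShStab.IsHilbPoly k X L E P →
      (∀ (G : X.Modules) (ι : G ⟶ E), Mono ι → Coh.IsCoh G → ¬ IsZero G →
        ∀ Q : ℚ[X], ShStab.IsHilbPoly k X L G Q → Q.eval 0 ≤ C) →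
      Curv2.IsMRegular k n ((Scheme.Modules.pushforward i).obj E) m := by
  haveI := isProper_of_closed i hi
  haveI := Euler.isNoetherian_of_proper (X := X) k
  let c : ℚ := Module.finrank k (Coh.HH (CohB1.ProjSpace n k)
      (Ft ((Scheme.Modules.pushforward i).obj (Coh.structureModule X)) 0) 1)
  obtain ⟨N, hN⟩ := exists_nat_gt (C + c)
  obtain ⟨M, hM⟩ : ∃ M : ℕ, -P.eval ((-(N : ℤ) : ℤ) : ℚ) ≤ (M : ℚ) := exists_nat_ge _
  refine ⟨-(N : ℤ) + 1 + M, fun E hE hp hP hC => ?_⟩
  obtain ⟨ι, hι, hCd⟩ := exists_linear_infinite i hi hdim hE hp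
  haveI := hι
  have hG : Coh.IsCoh ((Scheme.Modules.pushforward i).obj E) := FormalExist7.isCoh_pushforward i hE
  have hCc : Coh.IsCoh (cokernel ι) := QCoh.isCoh_cokernel ι (isCoh_Ft hG (-1)) hG
  have hC' : ∀ q : ℕ, 1 ≤ q → q ≤ n →
      Subsingleton (Coh.HH (CohB1.ProjSpace n k) (Ft (cokernel ι) (-(N : ℤ) + 1 - q)) q) :=
    fun q hq _ => subsingleton_Ft_of_support_dim_le_zero hCc hCd _ hq
  have hh : (h1dim ((Scheme.Modules.pushforward i).obj E) (-(N : ℤ) + 1 - 1) : ℤ) ≤ M := by
    rw [show -(N : ℤ) + 1 - 1 = -(N : ℤ) by ring]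
    have h0 := h0_eq_zero_of_bound i hi hL hdim hLa hE hp hC (j := -(N : ℤ)) (by omega)
      (by push_cast; linarith)
    have he := euler_push_eq i hi hL hE hP (-(N : ℤ))
    rw [Euler.euler_eq_sum k _ (N := 2) (fun q hq => subsingleton_two_le i hi hdim _ hE _ q hq)] at he
    simp only [Finset.sum_range_succ, Finset.sum_range_zero, h0] at he
    push_cast at he hM
    have : (h1dim ((Scheme.Modules.pushforward i).obj E) (-(N : ℤ)) : ℚ) ≤ (M : ℚ) := by
      show (Module.finrank k _ : ℚ) ≤ _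
      linarith
    exact_mod_cast this
  exact fun q hq _ => propagate hG _ (fun l hl _ => regular_of_extension hG hC' l hl) q _ hq
    (by simp only [sub_le_sub_iff_right]; omega)

/-- Pure modules with bounded submodules and finitely many Hilbert polynomials form a bounded family. -/
theorem isBounded_of_sub_bound [Infinite k] (s : Set ℚ[X]) (hs : s.Finite) (C : ℚ) :
    Pic13.IsBounded k X (fun E => Coh.IsCoh E ∧ ShStab.IsPure X E 1 ∧ (∃ P ∈ s, ShStab.IsHilbPoly k X L E P) ∧
      ∀ (G : X.Modules) (ι : G ⟶ E), Mono ι → Coh.IsCoh G → ¬ IsZero G →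
        ∀ Q : ℚ[X], ShStab.IsHilbPoly k X L G Q → Q.eval 0 ≤ C) := by
  haveI := isProper_of_closed i hi
  haveI := Euler.isNoetherian_of_proper (X := X) k
  choose m hm using fun P => exists_regular_bound i hi hL hdim hLa P C
  obtain ⟨M, hM⟩ := (hs.image m).bddAbove
  obtain ⟨B, hB⟩ := (hs.image fun P => ⌊P.eval (M : ℚ)⌋.toNat).bddAbove
  refine isBounded_mono (isBounded_regular_closed i hi M B) ?_
  rintro E ⟨hc, hp, ⟨P, hPs, hP⟩, hC⟩
  have hG : Coh.IsCoh ((Scheme.Modules.pushforward i).obj E) := FormalExist7.isCoh_pushforward i hc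
  have hreg := regular_of_le hG (hm P E hc hp hP hC) (hM ⟨P, hPs, rfl⟩)
  refine ⟨hc, hreg, le_trans ?_ (hB ⟨P, hPs, rfl⟩)⟩
  have he := euler_push_eq i hi hL hc hP M
  rw [Euler.euler_eq_sum k _ (N := 1) (fun q hq => propagate hG M hreg q M hq (by omega))] at he
  simp only
  rw [← he]
  simp

end GrothLib.BddFam20
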