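import Groth.Agent.Lib.QCoh.DevissageSummands
import Groth.Agent.Lib.BddFam20.Core
import Groth.Agent.Lib.CMReg.Linear
import Groth.Agent.Lib.CMReg.Extension
import Groth.Agent.Lib.CurveMult.EtaleEuler
import Groth.Agent.Lib.SerrePn27.HomTwist

/-!
# Regular modules with bounded sections form a bounded family on projective space
-/

set_option autoImplicit false
set_option linter.style.haveILetI false
set_option linter.unusedSectionVars false
set_option maxHeartbeats 1000000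
set_option backward.isDefEq.respectTransparency false

universe u

open CategoryTheory CategoryTheory.Limits AlgebraicGeometry
open GrothLib.CMReg
open GrothLib.Cohom (hhMap)

noncomputable section

namespace GrothLib.BddFam20

variable {n : ℕ} {k : Type u} [Field k]

theorem nonempty_Ft_zero (M : (CohB1.ProjSpace n k).Modules) : Nonempty (Ft M 0 ≅ M) := by
  obtain ⟨e3⟩ := nonempty_twist_zero (n := n) (k := k)
  exact ⟨Ample.LineData.tensorModMapIso (Iso.refl M) e3 ≪≫
    GrTilde.tensorModComm (X := CohB1.ProjSpace n k) _ _ ≪≫ OX.tensorUnitLeftIso _⟩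

theorem finite_hom_twist (a : ℤ) {M : (CohB1.ProjSpace n k).Modules} (hM : Coh.IsCoh M) :
    Module.Finite k (Twist.twistProjSpace n k a ⟶ M) := by
  obtain ⟨e0⟩ := nonempty_twist_zero (n := n) (k := k)
  obtain ⟨u⟩ := nonempty_twist_add (n := n) (k := k) (add_neg_cancel a)
  obtain ⟨u'⟩ := nonempty_twist_add (n := n) (k := k) (neg_add_cancel a)
  obtain ⟨g⟩ := nonempty_Ft_Ft M (-a) a 0 (neg_add_cancel a)
  obtain ⟨g0⟩ := nonempty_Ft_zero M
  obtain ⟨E⟩ := SerrePn27.nonempty_hom_equiv_of_tensor (k := k) (X := CohB1.ProjSpace n k)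
    (L := Twist.twistProjSpace n k a) (M := Twist.twistProjSpace n k (-a)) (A := Twist.twistProjSpace n k a)
    (B := M) (E := Ft M (-a)) (u ≪≫ e0) (u' ≪≫ e0)
    (OX.tensorUnitLeftIso (X := CohB1.ProjSpace n k) (Twist.twistProjSpace n k a)) (g ≪≫ g0)
  haveI := finiteDimensional_Ft hM (-a) 0
  exact Module.Finite.equiv E.symm

theorem finite_hom_sumTwist (b : ℕ) (a : ℤ) {M : (CohB1.ProjSpace n k).Modules} (hM : Coh.IsCoh M) :
    Module.Finite k (sumTwist n k b a ⟶ M) := by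
  haveI : ∀ _ : Fin b, Module.Finite k (Twist.twistProjSpace n k a ⟶ M) := fun _ => finite_hom_twist a hM
  refine Module.Finite.of_injective (LinearMap.pi fun l : Fin b => Linear.leftComp k M
    (Sigma.ι (fun _ : Fin b => Twist.twistProjSpace n k a) l)) fun f g h => ?_
  exact Sigma.hom_ext _ _ fun l => congrFun h l

theorem exists_step {F : (CohB1.ProjSpace n k).Modules} (hF : Coh.IsCoh F) (m : ℤ)
    (hreg : Curv2.IsMRegular k n F m) (B : ℕ)
    (hB : Module.finrank k (Coh.HH (CohB1.ProjSpace n k) (Ft F m) 0) ≤ B) :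
    ∃ (b : ℕ) (φ : sumTwist n k b (-m) ⟶ F), b ≤ B ∧ Epi φ ∧ Coh.IsCoh (kernel φ) ∧
      Curv2.IsMRegular k n (kernel φ) (m + 1) := by
  haveI : Module.Finite k (Coh.HH (CohB1.ProjSpace n k) (Ft F m) 0) := finiteDimensional_Ft hF m 0
  haveI : IsProper (CohB1.ProjSpace n k ↘ Spec (CommRingCat.of k)) := Chow.isProper_toSpec n k
  obtain ⟨b, p, hp, hpb⟩ := exists_presentation (A := k) (spanned_of_regular hF m hreg m le_rfl)
    exists_toGlobal_eq
  have hfree : ∀ b, Coh.IsCoh (FlatMod.freeMod (CohB1.ProjSpace n k) b) := fun b =>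
    Euler.isCoh_of_isFinLocFree (OX.isFinLocFree_freeMod _ b)
  obtain ⟨e3⟩ := nonempty_twist_zero (n := n) (k := k)
  have hv : ∀ (b i : ℕ), 1 ≤ i → Subsingleton (Coh.HH _ (FlatMod.freeMod (CohB1.ProjSpace n k) b) i) :=
    fun b i hi => subsingleton_HH_sigma (X := CohB1.ProjSpace n k) _ fun _ =>
      subsingleton_of_iso e3 (subsingleton_HH_twist n hi (by omega))
  have hb : b ≤ B := by
    have hO : Curv2.euler k (CohB1.ProjSpace n k) (Coh.structureModule (CohB1.ProjSpace n k)) =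
        (Module.finrank k (Coh.HH _ (Coh.structureModule (CohB1.ProjSpace n k)) 0) : ℤ) := by
      rw [Euler.euler_eq_sum k _ (N := 1) fun i hi => subsingleton_of_iso e3 (subsingleton_HH_twist n hi (by omega))]
      simp
    have hf : Curv2.euler k (CohB1.ProjSpace n k) (FlatMod.freeMod (CohB1.ProjSpace n k) b) =
        (Module.finrank k (Coh.HH _ (FlatMod.freeMod (CohB1.ProjSpace n k) b) 0) : ℤ) := by
      rw [Euler.euler_eq_sum k _ (N := 1) (hv b)]
      simp
    have h1 : 1 ≤ Module.finrank k (Coh.HH _ (Coh.structureModule (CohB1.ProjSpace n k)) 0) := by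
      haveI := Euler.finiteDimensional_HH k
        (CMReg.isCoh_structure (X := CohB1.ProjSpace n k)) 0
      haveI : Nontrivial (Coh.HH (CohB1.ProjSpace n k) (Coh.structureModule (CohB1.ProjSpace n k)) 0) :=
        (ProjCoh.H0top (Coh.structureModule (CohB1.ProjSpace n k))).toEquiv.nontrivial (β := Γ(CohB1.ProjSpace n k, ⊤))
      exact Module.finrank_pos
    have h2 := CurveMult.euler_freeMod_structure k (X := CohB1.ProjSpace n k) b
    rw [hO, hf] at h2
    have h3 := (LinearEquiv.ofBijective _ hpb).finrank_eq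
    have h4 : b * 1 ≤ b * Module.finrank k (Coh.HH _ (Coh.structureModule (CohB1.ProjSpace n k)) 0) :=
      Nat.mul_le_mul le_rfl h1
    have h5 : Module.finrank k (Coh.HH _ (FlatMod.freeMod (CohB1.ProjSpace n k) b) 0) =
        b * Module.finrank k (Coh.HH _ (Coh.structureModule (CohB1.ProjSpace n k)) 0) := by exact_mod_cast h2
    omega
  have hS0 : (ShortComplex.mk (kernel.ι p) p (kernel.condition p)).ShortExact :=
    { exact := ShortComplex.exact_of_f_is_kernel _ (kernelIsKernel p) }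
  have hS1 := ft_shortExact hS0 (-m)
  set S1 := (ShortComplex.mk (kernel.ι p) p (kernel.condition p)).map (ftFun (-m)) with hS1def
  obtain ⟨e1⟩ := nonempty_Ft_freeMod (n := n) (k := k) b (-m)
  obtain ⟨e2⟩ := nonempty_Ft_Ft F m (-m) 0 (add_neg_cancel m)
  let a : Ft (Ft F m) (-m) ≅ F := e2 ≪≫ (nonempty_Ft_zero F).some
  let φ : sumTwist n k b (-m) ⟶ F := e1.inv ≫ S1.g ≫ a.hom
  haveI := hS1.epi_g
  haveI : Epi φ := epi_comp _ _
  let eK : kernel φ ≅ S1.X₁ := kernelIsIsoComp e1.inv (S1.g ≫ a.hom) ≪≫ kernelCompMono S1.g a.hom ≪≫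
    (kernelIsKernel S1.g).conePointUniqueUpToIso hS1.fIsKernel
  have hK : Coh.IsCoh (kernel p) := QCoh.isCoh_kernel p (hfree b) (isCoh_Ft hF m)
  refine ⟨b, φ, hb, inferInstance, QCoh.isCoh_of_iso eK.symm (isCoh_Ft hK (-m)), fun i hi hin => ?_⟩
  rw [show (m + 1 - i : ℤ) = m + (1 - i) by ring]
  obtain ⟨g⟩ := nonempty_Ft_Ft (kernel p) (-m) (m + (1 - (i : ℤ))) (1 - (i : ℤ)) (by ring)
  refine subsingleton_of_iso (Ample.LineData.tensorModMapIso eK (Iso.refl _) ≪≫ g).symm ?_
  obtain ⟨q, rfl⟩ : ∃ q, i = q + 1 := ⟨i - 1, by omega⟩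
  rcases Nat.eq_zero_or_pos q with rfl | hq
  · have h2 := hv b 1 le_rfl
    have h1 : Subsingleton (Coh.HH _ (kernel p) 1) := by
      refine subsingleton_of_forall_eq 0 fun x => ?_
      obtain ⟨y, rfl⟩ := ((Cohom.exact₁ (A := k) hS0 0) x).1 (Subsingleton.elim _ _)
      obtain ⟨z, rfl⟩ := hpb.2 y
      exact (Cohom.exact₃ (A := k) hS0 0).apply_apply_eq_zero z
    rw [show (1 : ℤ) - ((0 + 1 : ℕ) : ℤ) = 0 by simp]
    exact subsingleton_of_iso (nonempty_Ft_zero (kernel p)).some.symm h1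
  · refine sub_X₁ hS0 (subsingleton_of_iso
        (nonempty_Ft_Ft F m (1 - ((q + 1 : ℕ) : ℤ)) (m - q) (by push_cast; ring)).some.symm (hreg q hq (by omega)))
      (subsingleton_Ft_freeMod b (by omega) (by omega))

theorem exists_pad {b B : ℕ} (h : b ≤ B) (s : ℤ) :
    ∃ (σ : sumTwist n k b s ⟶ sumTwist n k B s) (ρ : sumTwist n k B s ⟶ sumTwist n k b s), σ ≫ ρ = 𝟙 _ := by
  refine ⟨Sigma.desc fun l => Sigma.ι (fun _ : Fin B => Twist.twistProjSpace n k s) (Fin.castLE h l),
    Sigma.desc fun j => if hj : j.val < b then Sigma.ι (fun _ : Fin b => Twist.twistProjSpace n k s) ⟨j, hj⟩ else 0,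
    Sigma.hom_ext _ _ fun l => ?_⟩
  rw [Sigma.ι_desc_assoc, Sigma.ι_desc, Category.comp_id]
  simp

/-- **Regular modules with bounded sections form a bounded family.** -/
theorem isBounded_regular (m : ℤ) (B : ℕ) :
    Pic13.IsBounded k (CohB1.ProjSpace n k) (fun F => Coh.IsCoh F ∧ Curv2.IsMRegular k n F m ∧
      Module.finrank k (Coh.HH (CohB1.ProjSpace n k) (Ft F m) 0) ≤ B) := by
  classical
  haveI : IsProper (CohB1.ProjSpace n k ↘ Spec (CommRingCat.of k)) := Chow.isProper_toSpec n k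
  let B' := (Finset.range (B + 1)).sup fun b =>
    Module.finrank k (Coh.HH (CohB1.ProjSpace n k) (sumTwist n k b 1) 0)
  let R₁ := sumTwist n k B' (-(m + 1))
  let A := sumTwist n k B (-m)
  have hA : Coh.IsCoh A := isCoh_sumTwist B _
  haveI := Euler.isNoetherian_of_proper (X := CohB1.ProjSpace n k) k
  have hR : Coh.IsCoh (R₁ ⊞ A) := QCoh.isCoh_biprod' (isCoh_sumTwist B' _) hA
  haveI := finite_hom_sumTwist B' (-(m + 1)) hA
  haveI := finite_hom_sumTwist B (-m) hA
  haveI : Module.Finite k (R₁ ⊞ A ⟶ A) := Module.Finite.of_injective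
    ((Linear.leftComp k A (biprod.inl : R₁ ⟶ R₁ ⊞ A)).prod (Linear.leftComp k A (biprod.inr : A ⟶ R₁ ⊞ A)))
    fun f g h => biprod.hom_ext' _ _ (congrArg Prod.fst h) (congrArg Prod.snd h)
  let β := Module.finBasis k (R₁ ⊞ A ⟶ A)
  refine isBounded_mono (isBounded_cokernel hR hA β) ?_
  rintro F ⟨hF, hreg, hB⟩
  obtain ⟨b, φ, hb, hφ, hK, hKreg⟩ := exists_step hF m hreg B hB
  have hB' : Module.finrank k (Coh.HH (CohB1.ProjSpace n k) (Ft (kernel φ) (m + 1)) 0) ≤ B' := by
    have hS0 : (ShortComplex.mk (kernel.ι φ) φ (kernel.condition φ)).ShortExact :=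
      { exact := ShortComplex.exact_of_f_is_kernel _ (kernelIsKernel φ) }
    have hS := ft_shortExact hS0 (m + 1)
    obtain ⟨e⟩ := nonempty_Ft_sumTwist (n := n) (k := k) b (-m) (m + 1) 1 (by ring)
    haveI := hS.mono_f
    haveI := Euler.finiteDimensional_HH k (isCoh_sumTwist (n := n) (k := k) b 1) 0
    haveI : Mono (((ShortComplex.mk (kernel.ι φ) φ (kernel.condition φ)).map (ftFun (m + 1))).f ≫ e.hom) :=
      mono_comp _ _
    refine le_trans (LinearMap.finrank_le_finrank_of_injective (NegTwist.injective_hhMap_zero k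
      (((ShortComplex.mk (kernel.ι φ) φ (kernel.condition φ)).map (ftFun (m + 1))).f ≫ e.hom))) ?_
    exact Finset.le_sup (f := fun b => Module.finrank k (Coh.HH (CohB1.ProjSpace n k) (sumTwist n k b 1) 0))
      (Finset.mem_range.2 (by omega))
  obtain ⟨b', χ, hb', hχ, -, -⟩ := exists_step hK (m + 1) hKreg B' hB'
  obtain ⟨σ, ρ, hσρ⟩ := exists_pad (n := n) (k := k) hb (-m)
  obtain ⟨σ', ρ', hσρ'⟩ := exists_pad (n := n) (k := k) hb' (-(m + 1))
  haveI : IsSplitEpi ρ := IsSplitEpi.mk' ⟨σ, hσρ⟩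
  haveI : IsSplitEpi ρ' := IsSplitEpi.mk' ⟨σ', hσρ'⟩
  let ω : R₁ ⊞ A ⟶ A := biprod.desc (ρ' ≫ χ ≫ kernel.ι φ ≫ σ) (𝟙 A - ρ ≫ σ)
  refine ⟨fun l => β.repr ω l, ?_⟩
  rw [β.sum_repr ω]
  have hw : ω ≫ ρ ≫ φ = 0 := by
    refine biprod.hom_ext' _ _ ?_ ?_
    · rw [biprod.inl_desc_assoc, comp_zero, Category.assoc, Category.assoc, Category.assoc, ← Category.assoc σ, hσρ,
        Category.id_comp, kernel.condition, comp_zero, comp_zero]
    · rw [biprod.inr_desc_assoc, comp_zero, Preadditive.sub_comp, Category.id_comp, Category.assoc,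
        ← Category.assoc σ, hσρ, Category.id_comp, sub_self]
  haveI : Epi (ρ ≫ φ) := epi_comp _ _
  refine ⟨(cokernelIsCokernel ω).coconePointUniqueUpToIso (?_ : IsColimit (CokernelCofork.ofπ (ρ ≫ φ) hw))⟩
  have hfac : ∀ {W : (CohB1.ProjSpace n k).Modules} (g : A ⟶ W), ω ≫ g = 0 →
      g = ρ ≫ σ ≫ g ∧ kernel.ι φ ≫ σ ≫ g = 0 := by
    intro W g hg
    have h1 := congrArg (fun t => (biprod.inr : A ⟶ R₁ ⊞ A) ≫ t) hg
    simp only [ω, biprod.inr_desc_assoc, comp_zero, Preadditive.sub_comp, Category.id_comp, sub_eq_zero,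
      Category.assoc] at h1
    have h2 := congrArg (fun t => (biprod.inl : R₁ ⟶ R₁ ⊞ A) ≫ t) hg
    simp only [ω, biprod.inl_desc_assoc, comp_zero, Category.assoc] at h2
    refine ⟨h1, ?_⟩
    rw [← cancel_epi χ, ← cancel_epi ρ', comp_zero, comp_zero]
    exact h2
  have hS0 : (ShortComplex.mk (kernel.ι φ) φ (kernel.condition φ)).Exact :=
    ShortComplex.exact_of_f_is_kernel _ (kernelIsKernel φ)
  refine CokernelCofork.IsColimit.ofπ _ hw (fun g hg => hS0.desc (σ ≫ g) (hfac g hg).2) (fun g hg => ?_)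
    fun g hg l hl => ?_
  · rw [Category.assoc]
    exact (congrArg (fun t => ρ ≫ t) (hS0.g_desc (σ ≫ g) (hfac g hg).2)).trans (hfac g hg).1.symm
  · rw [← cancel_epi (ρ ≫ φ), hl, Category.assoc]
    exact ((congrArg (fun t => ρ ≫ t) (hS0.g_desc (σ ≫ g) (hfac g hg).2)).trans (hfac g hg).1.symm).symm

end GrothLib.BddFam20
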